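import Cfsg.Agent.H20.PrincipalColumn
import Cfsg.Agent.H12.Linear
import Mathlib

/-!
Characters induced from linear characters of the Borel subgroup of a group like `SL₂(r).2`, sorted
into 2-blocks: those induced from characters that are nontrivial on the torus avoid the principal
block, the permutation character lies in it.
-/

set_option autoImplicit false
set_option linter.style.haveILetI false
set_option linter.unusedSectionVars false

open Cfsg MonoidAlgebra
open scoped ComplexConjugate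

namespace H18.CSy

universe u

variable {K : Type u} [Group K] [Fintype K]

/-- Averaging over all conjugates. -/
noncomputable def avg (f : K → ℂ) (y : K) : ℂ := ∑ x : K, f (x * y * x⁻¹)

theorem isClassFunction_avg (f : K → ℂ) : IsClassFunction K (avg f) := fun y c => by
  simp only [avg]
  refine Fintype.sum_equiv (Equiv.mulRight c) _ _ fun x => ?_
  simp only [Equiv.coe_mulRight]
  congr 1
  group

theorem classInner_avg (f : K → ℂ) (φ : IrrCharacter K) :
    classInner (avg f) (φ : K → ℂ) = ∑ z : K, f z * conj ((φ : K → ℂ) z) := by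
  have h : ∀ x : K, ∑ y : K, f (x * y * x⁻¹) * conj ((φ : K → ℂ) y) =
      ∑ z : K, f z * conj ((φ : K → ℂ) z) := fun x =>
    Fintype.sum_equiv (MulAut.conj x).toEquiv _ _ fun y => by
      show f (x * y * x⁻¹) * conj ((φ : K → ℂ) y) =
        f (x * y * x⁻¹) * conj ((φ : K → ℂ) (x * y * x⁻¹))
      rw [H12.irr_isClassFunction φ y x]
  simp only [classInner, avg, Finset.sum_mul]
  rw [Finset.sum_comm, Finset.sum_congr rfl fun x _ => h x, Finset.sum_const, nsmul_eq_mul,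
    ← mul_assoc, Finset.card_univ, ← Nat.card_eq_fintype_card,
    inv_mul_cancel₀ H12.card_ne_zero', one_mul]

variable {p : ℕ} {M : Ideal AlgInt} [hMp : M.IsPrime]

/-- A function supported on `p`-regular elements is orthogonal to a block when a function with the
same values on `p`-regular elements is. -/
theorem regular_part_orth (hM : IsPModular p M) {b : Set (IrrCharacter K)} (hb : IsPBlock M b)
    {f f' : K → ℂ} (hf' : ∀ z, p ∣ orderOf z → f' z = 0)
    (heq : ∀ z, ¬ p ∣ orderOf z → f z = f' z)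
    (h0 : ∀ φ ∈ b, ∑ z : K, f z * conj ((φ : K → ℂ) z) = 0) {φ : IrrCharacter K} (hφ : φ ∈ b) :
    ∑ z : K, f' z * conj ((φ : K → ℂ) z) = 0 := by
  classical
  haveI : Fact p.Prime := ⟨hM.1⟩
  have hord : ∀ x y : K, orderOf (x * y * x⁻¹) = orderOf y := fun x y =>
    MulEquiv.orderOf_eq (MulAut.conj x) y
  have hall : ∀ y, blockPart b (avg f') y = 0 := by
    intro y
    by_cases hy : p ∣ orderOf y
    · refine H20.blockPart_vanish_section hM (isClassFunction_avg f')
        (H20.exists_orderOf_pPart y) (fun u hu => ?_) hb (IsConj.refl _)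
      refine Finset.sum_eq_zero fun x _ => hf' _ ?_
      rw [hord]
      by_contra hnu
      obtain ⟨c, hc⟩ := isConj_iff.1 hu
      have h1 : H20.pPart p u = 1 :=
        (H20.isPPart_unique' (one_mul u) (Commute.one_left u) ⟨0, by simp⟩ hnu).1.symm
      rw [h1, mul_inv_eq_one] at hc
      have h2 : H20.pPart p y = 1 := mul_left_cancel (a := c) (by rw [hc, mul_one])
      have h3 := H20.not_dvd_orderOf_qPart (p := p) y
      have h4 := H20.pPart_mul_qPart (p := p) y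
      rw [h2, one_mul] at h4
      rw [h4] at h3
      exact h3 hy
    · rw [← H20.blockPart_congr_regular hM hb (f := avg f) (f' := avg f') (fun w hw =>
        Finset.sum_congr rfl fun x _ => heq _ (by rw [hord]; exact hw)) hy, H20.blockPart_eq_sum]
      refine Finset.sum_eq_zero fun ψ _ => ?_
      split_ifs with hψ
      · rw [classInner_avg, h0 ψ hψ, zero_mul]
      · rfl
  have h := congrArg (fun g : K → ℂ => classInner g (φ : K → ℂ))
    (show blockPart b (avg f') = fun g => ∑ χ : IrrCharacter K,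
      (if χ ∈ b then classInner (avg f') (χ : K → ℂ) else 0) * (χ : K → ℂ) g from funext fun g => by
        rw [H20.blockPart_eq_sum]
        exact Finset.sum_congr rfl fun χ _ => by split_ifs <;> simp)
  simp only [funext hall] at h
  rw [show (fun g => ∑ χ : IrrCharacter K,
      (if χ ∈ b then classInner (avg f') (χ : K → ℂ) else 0) * (χ : K → ℂ) g) =
      ∑ χ : IrrCharacter K, (if χ ∈ b then classInner (avg f') (χ : K → ℂ) else 0) • (χ : K → ℂ) by
    funext g; rw [Finset.sum_apply]; rfl, H12.classInner_sum_smul_irr, if_pos hφ, classInner_avg,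
    show (fun _ : K => (0 : ℂ)) = 0 from rfl, H12.classInner_zero_left] at h
  exact h.symm

open Classical in
theorem sum_class_mul (φ : IrrCharacter K) (d b : K) :
    ∑ x : K, (if IsConj d x then (φ : K → ℂ) (x * b) else 0) =
      centralChar (φ : K → ℂ) d * (φ : K → ℂ) b := by
  have h := H20.omega_mul φ (H20.isCl_clSum ℂ d) (MonoidAlgebra.single b (1 : ℂ))
  rw [H20.omega_clSum, H20.omega, H20.omega,
    ← Equiv.sum_comp (Equiv.mulRight b)
      (fun g => (H20.clSum ℂ d * MonoidAlgebra.single b (1 : ℂ)).coeff g * (φ : K → ℂ) g),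
    Finset.sum_eq_single (f := fun g => (MonoidAlgebra.single b (1 : ℂ)).coeff g * (φ : K → ℂ) g) b
      (fun g _ hg => by simp [Ne.symm hg]) (by simp)] at h
  simp only [Equiv.coe_mulRight, H20.coeff_mul_single_one, mul_inv_cancel_right, H20.coeff_clSum,
    MonoidAlgebra.coeff_single, Finsupp.single_eq_same, one_mul, ite_mul, zero_mul] at h
  rw [← mul_div_assoc, div_left_inj' (H12.irr_apply_one_ne_zero φ)] at h
  exact h

/-- The hypotheses on a Borel subgroup `B` with torus part `T₀`, transversal element `g₀`. -/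
structure Borel (B R T₀ H : Subgroup K) (g₀ : K) (r : ℕ) : Prop where
  r_odd : Odd r
  R_le : R ≤ B
  T_le : T₀ ≤ B
  R_H : R ≤ H
  T_H : T₀ ≤ H
  H_le : H ≤ B
  H_odd : Odd (Nat.card H)
  H_norm : B ≤ Subgroup.normalizer (H : Set K)
  H_index : ∃ k : ℕ, H.relIndex B = 2 ^ k
  card_R : Nat.card R = r
  R_norm : B ≤ Subgroup.normalizer (R : Set K)
  ab : ∀ a ∈ B, ∀ b ∈ B, a * b * a⁻¹ * b⁻¹ ∈ R
  fpf : ∀ d ∈ T₀, d ≠ 1 → ∀ ρ ∈ R, ρ ≠ 1 → ρ * d ≠ d * ρ
  card_K : Nat.card K = (r + 1) * Nat.card B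
  two_trans : r * Nat.card {b : K // b ∈ B ∧ g₀⁻¹ * b * g₀ ∈ B} = Nat.card B
  g₀_notMem : g₀ ∉ B
  g₀_inv : ∀ d ∈ T₀, g₀ * d * g₀⁻¹ = d⁻¹
  cent_d : ∀ d ∈ T₀, d ≠ 1 → Nat.card (Subgroup.centralizer ({d} : Set K)) * (r * (r + 1)) =
    Nat.card K
  fix_d : ∀ d ∈ T₀, d ≠ 1 → ∀ g : K, g⁻¹ * d * g ∈ B → g ∈ B ∨ g₀⁻¹ * g ∈ B

namespace Borel

variable {B R T₀ H : Subgroup K} {g₀ : K} {r : ℕ}

theorem r_pos (hB : Borel B R T₀ H g₀ r) : 0 < r := hB.r_odd.pos

theorem double_coset (hB : Borel B R T₀ H g₀ r) {x : K} (hx : x ∉ B) :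
    ∃ a ∈ B, ∃ b ∈ B, x = a * g₀ * b := by
  classical
  have hst : Nat.card (MulAction.stabilizer B (g₀ : K ⧸ B)) =
      Nat.card {b : K // b ∈ B ∧ g₀⁻¹ * b * g₀ ∈ B} := by
    refine Nat.card_congr
      { toFun := fun b => ⟨(b : B), (b : B).2, ?_⟩
        invFun := fun b => ⟨⟨b.1, b.2.1⟩, ?_⟩
        left_inv := fun b => rfl
        right_inv := fun b => rfl }
    · have h : ((((b : B) : K) * g₀ : K) : K ⧸ B) = (g₀ : K ⧸ B) := b.2
      rw [QuotientGroup.eq] at h
      have := inv_mem h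
      rwa [mul_inv_rev, inv_inv, ← mul_assoc] at this
    · show ((b.1 * g₀ : K) : K ⧸ B) = (g₀ : K ⧸ B)
      rw [QuotientGroup.eq]
      have := inv_mem b.2.2
      rwa [show (g₀⁻¹ * b.1 * g₀)⁻¹ = (b.1 * g₀)⁻¹ * g₀ by group] at this
  have horb : Nat.card (MulAction.orbit B (g₀ : K ⧸ B)) = r := by
    have h := Nat.card_congr (MulAction.orbitProdStabilizerEquivGroup B (g₀ : K ⧸ B))
    rw [Nat.card_prod, hst, ← hB.two_trans] at h
    refine Nat.eq_of_mul_eq_mul_right ?_ h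
    rw [Nat.pos_iff_ne_zero]
    intro h0
    have := hB.two_trans
    rw [h0, mul_zero] at this
    exact Nat.card_pos.ne this
  have hquot : Nat.card (K ⧸ B) = r + 1 := by
    have h := B.card_eq_card_quotient_mul_card_subgroup
    rw [hB.card_K] at h
    exact (Nat.eq_of_mul_eq_mul_right Nat.card_pos h).symm
  have hmem : ∀ q : K ⧸ B, q ≠ ((1 : K) : K ⧸ B) → q ∈ MulAction.orbit B (g₀ : K ⧸ B) := by
    intro q hq
    by_contra hn
    have h1 : ((1 : K) : K ⧸ B) ∉ MulAction.orbit B (g₀ : K ⧸ B) := by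
      rintro ⟨b, hb⟩
      have hb' : (((b : K) * g₀ : K) : K ⧸ B) = ((1 : K) : K ⧸ B) := hb
      rw [QuotientGroup.eq, mul_one, inv_mem_iff] at hb'
      exact hB.g₀_notMem ((B.mul_mem_cancel_left b.2).1 hb')
    have hle : (insert q (insert ((1 : K) : K ⧸ B) (MulAction.orbit B (g₀ : K ⧸ B)))).ncard ≤
        r + 1 := by
      rw [← hquot, ← Set.ncard_univ]; exact Set.ncard_le_ncard (Set.subset_univ _)
    rw [Set.ncard_insert_of_notMem (by simp [hq, hn]), Set.ncard_insert_of_notMem h1,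
      ← Nat.card_coe_set_eq, horb] at hle
    omega
  obtain ⟨a, ha⟩ := hmem (x : K ⧸ B) (by
    rw [Ne, QuotientGroup.eq, mul_one, inv_mem_iff]; exact hx)
  have ha' : (((a : K) * g₀ : K) : K ⧸ B) = (x : K ⧸ B) := ha
  rw [QuotientGroup.eq] at ha'
  exact ⟨a, a.2, _, ha', by group⟩

open Classical in
/-- The function of `x` obtained by averaging a character against a linear character of `B`. -/
noncomputable def twist (μ : B →* ℂˣ) (φ : IrrCharacter K) (x : K) : ℂ :=
  ∑ b : B, ((μ b⁻¹ : ℂˣ) : ℂ) * (φ : K → ℂ) (x * b)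

open Classical in
theorem twist_mul_right (μ : B →* ℂˣ) (φ : IrrCharacter K) (x : K) (c : B) :
    twist μ φ (x * c) = ((μ c : ℂˣ) : ℂ) * twist μ φ x := by
  simp only [twist, Finset.mul_sum]
  refine Fintype.sum_equiv (Equiv.mulLeft c) _ _ fun b => ?_
  simp only [Equiv.coe_mulLeft, mul_inv_rev, map_mul, Subgroup.coe_mul, Units.val_mul, mul_assoc]
  have h1 : ((μ c⁻¹ : ℂˣ) : ℂ) * ((μ c : ℂˣ) : ℂ) = 1 := by
    rw [← Units.val_mul, ← map_mul, inv_mul_cancel, map_one, Units.val_one]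
  linear_combination -((μ b⁻¹ : ℂˣ) : ℂ) * (φ : K → ℂ) (x * ((c : K) * b)) * h1

open Classical in
theorem twist_mul_left (μ : B →* ℂˣ) (φ : IrrCharacter K) (x : K) (c : B) :
    twist μ φ ((c : K) * x) = ((μ c : ℂˣ) : ℂ) * twist μ φ x := by
  rw [← twist_mul_right μ φ x c]
  simp only [twist, Finset.mul_sum]
  have hcl : ∀ y : K, (φ : K → ℂ) ((c : K) * y) = (φ : K → ℂ) (y * c) := fun y => by
    rw [← H12.irr_isClassFunction φ (y * c) (c : K)]; congr 1; group
  refine Fintype.sum_equiv (MulAut.conj c⁻¹).toEquiv _ _ fun b => ?_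
  simp only [MulEquiv.toEquiv_eq_coe, MulEquiv.coe_toEquiv, MulAut.conj_apply, inv_inv]
  rw [mul_assoc (c : K), hcl]
  congr 1
  · simp [map_mul, mul_comm, mul_left_comm]
  · simp [mul_assoc]

theorem twist_sum_class (μ : B →* ℂˣ) (φ : IrrCharacter K) (d : K)
    [DecidablePred (IsConj d)] :
    ∑ x : K, (if IsConj d x then twist μ φ x else 0) =
      centralChar (φ : K → ℂ) d * twist μ φ 1 := by
  classical
  simp only [twist, one_mul, Finset.mul_sum]
  rw [Finset.sum_congr rfl fun x _ => (show (if IsConj d x then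
      ∑ b : B, ((μ b⁻¹ : ℂˣ) : ℂ) * (φ : K → ℂ) (x * b) else 0) =
      ∑ b : B, ((μ b⁻¹ : ℂˣ) : ℂ) * (if IsConj d x then (φ : K → ℂ) (x * b) else 0) by
    split_ifs <;> simp), Finset.sum_comm]
  refine Finset.sum_congr rfl fun b _ => ?_
  rw [← Finset.mul_sum]
  have := sum_class_mul φ d (b : K)
  calc _ = ((μ b⁻¹ : ℂˣ) : ℂ) * (centralChar (φ : K → ℂ) d * (φ : K → ℂ) b) := by
        rw [← this]; congr 1; exact Finset.sum_congr rfl fun x _ => by congr
    _ = _ := by ring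

open Classical in
theorem twist_one_eq (μ : B →* ℂˣ) (φ : IrrCharacter K) :
    twist μ φ 1 =
      ∑ z : K, (if h : z ∈ B then ((μ ⟨z, h⟩ : ℂˣ) : ℂ) else 0) * conj ((φ : K → ℂ) z) := by
  simp only [twist, one_mul, dite_mul, zero_mul]
  rw [Finset.sum_dite, Finset.sum_const_zero, add_zero]
  refine Finset.sum_bij' (fun b _ => ⟨((b⁻¹ : B) : K), by simp⟩)
    (fun z _ => (⟨(z : K), (Finset.mem_filter.1 z.2).2⟩ : B)⁻¹) (by simp) (by simp)
    (fun b _ => Subtype.ext (by simp)) (fun z _ => Subtype.ext (by simp)) fun b _ => ?_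
  show _ = ((μ b⁻¹ : ℂˣ) : ℂ) * conj ((φ : K → ℂ) ((b⁻¹ : B) : K))
  rw [← H12.irr_inv, Subgroup.coe_inv, inv_inv]

theorem isConj_mul_d (hB : Borel B R T₀ H g₀ r) {d : K} (hd : d ∈ T₀) (h1 : d ≠ 1) {ρ : K}
    (hρ : ρ ∈ R) : IsConj d (ρ * d) := by
  classical
  let f : R → R := fun σ => ⟨(σ : K) * d * (σ : K)⁻¹ * d⁻¹,
    hB.ab _ (hB.R_le σ.2) _ (hB.T_le hd)⟩
  have hf : Function.Injective f := by
    intro σ τ h
    have h' : (σ : K) * d * (σ : K)⁻¹ * d⁻¹ = (τ : K) * d * (τ : K)⁻¹ * d⁻¹ :=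
      congrArg Subtype.val h
    apply Subtype.ext
    by_contra hne
    have hm : (τ : K)⁻¹ * σ ∈ R := mul_mem (inv_mem τ.2) σ.2
    refine hB.fpf d hd h1 _ hm (fun he => hne ?_) ?_
    · rw [inv_mul_eq_one] at he; exact he.symm
    · calc (τ : K)⁻¹ * σ * d = (τ : K)⁻¹ * ((σ : K) * d * (σ : K)⁻¹ * d⁻¹) * d * σ := by group
        _ = d * ((τ : K)⁻¹ * σ) := by rw [h']; group
  obtain ⟨σ, hσ⟩ := (Finite.injective_iff_surjective.1 hf) ⟨ρ, hρ⟩
  have h' : (σ : K) * d * (σ : K)⁻¹ * d⁻¹ = ρ := congrArg Subtype.val hσ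
  exact isConj_iff.2 ⟨σ, by rw [← h', inv_mul_cancel_right]⟩

theorem index_cent (hB : Borel B R T₀ H g₀ r) {d : K} (hd : d ∈ T₀) (h1 : d ≠ 1) :
    (Subgroup.centralizer ({d} : Set K)).index = r * (r + 1) := by
  have h := hB.cent_d d hd h1
  rw [← (Subgroup.centralizer ({d} : Set K)).card_mul_index] at h
  exact (Nat.eq_of_mul_eq_mul_left Nat.card_pos h).symm

theorem class_inter (hB : Borel B R T₀ H g₀ r) {d : K} (hd : d ∈ T₀) (h1 : d ≠ 1) {x : K}
    (hxB : x ∈ B) (hx : IsConj d x) : x * d⁻¹ ∈ R ∨ x * d ∈ R := by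
  obtain ⟨c, rfl⟩ := isConj_iff.1 hx
  rcases hB.fix_d d hd h1 c⁻¹ (by rwa [inv_inv]) with h | h
  · exact Or.inl (hB.ab _ (inv_mem_iff.1 h) _ (hB.T_le hd))
  · right
    have hi : g₀⁻¹ * d * g₀ = d⁻¹ := by
      have := hB.g₀_inv _ (inv_mem hd)
      rw [inv_inv] at this
      nth_rewrite 1 [← this]
      group
    have h2 := hB.ab _ (inv_mem h) _ (inv_mem (hB.T_le hd))
    have e : c * d * c⁻¹ * d = (g₀⁻¹ * c⁻¹)⁻¹ * d⁻¹ * ((g₀⁻¹ * c⁻¹)⁻¹)⁻¹ * (d⁻¹)⁻¹ := by
      conv_rhs => enter [1, 1, 2]; rw [← hi]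
      group
    rwa [e]

theorem inv_conj (hB : Borel B R T₀ H g₀ r) {d : K} (hd : d ∈ T₀) : IsConj d d⁻¹ :=
  isConj_iff.2 ⟨g₀, hB.g₀_inv d hd⟩

theorem sq_ne_one (hB : Borel B R T₀ H g₀ r) {d : K} (hd : d ∈ T₀) (h1 : d ≠ 1) : d * d ≠ 1 := by
  intro h
  have h2 : orderOf d ∣ 2 := orderOf_dvd_of_pow_eq_one (by rw [pow_two, h])
  have h3 : orderOf (⟨d, hB.T_H hd⟩ : H) ∣ Nat.card H := orderOf_dvd_natCard _
  rw [Subgroup.orderOf_mk] at h3
  rcases (Nat.dvd_prime Nat.prime_two).1 h2 with h4 | h4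
  · exact h1 (orderOf_eq_one_iff.1 h4)
  · rw [h4] at h3
    exact Nat.not_even_iff_odd.2 hB.H_odd (even_iff_two_dvd.2 h3)

open Classical in
theorem class_filter (hB : Borel B R T₀ H g₀ r) {d : K} (hd : d ∈ T₀) (h1 : d ≠ 1) :
    (Finset.univ.filter fun x : K => IsConj d x ∧ x ∈ B) =
      (Finset.univ.image fun ρ : R => (ρ : K) * d) ∪
        (Finset.univ.image fun ρ : R => (ρ : K) * d⁻¹) := by
  ext x
  simp only [Finset.mem_filter, Finset.mem_univ, true_and, Finset.mem_union, Finset.mem_image]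
  constructor
  · rintro ⟨hx, hxB⟩
    rcases hB.class_inter hd h1 hxB hx with h | h
    · exact Or.inl ⟨⟨_, h⟩, inv_mul_cancel_right _ _⟩
    · exact Or.inr ⟨⟨_, h⟩, mul_inv_cancel_right _ _⟩
  · rintro (⟨ρ, rfl⟩ | ⟨ρ, rfl⟩)
    · exact ⟨hB.isConj_mul_d hd h1 ρ.2, mul_mem (hB.R_le ρ.2) (hB.T_le hd)⟩
    · exact ⟨(hB.inv_conj hd).trans (hB.isConj_mul_d (inv_mem hd) (inv_ne_one.2 h1) ρ.2),
        mul_mem (hB.R_le ρ.2) (inv_mem (hB.T_le hd))⟩

variable {M : Ideal AlgInt} [hMp : M.IsPrime]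

theorem centralChar_principal (φ : IrrCharacter K) (hφ : φ ∈ principalBlock M K) (d : K) :
    MemLocalIdeal M
      (centralChar (φ : K → ℂ) d - ((Subgroup.centralizer ({d} : Set K)).index : ℂ)) := by
  have h := H20.sameBlock_of_mem H20.isPBlock_principalBlock hφ
    (show H12.oneIrr K ∈ principalBlock M K from H20.mem_blockOf_self (H12.oneIrr K)) d
  simpa [centralChar, H12.oneIrr_apply] using h

/-- A constituent induced from a character nontrivial on the torus is not in the principal block. -/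
theorem twist_eq_zero (hM : IsPModular 2 M) (hB : Borel B R T₀ H g₀ r) (μ : B →* ℂˣ)
    (hR : ∀ ρ : B, (ρ : K) ∈ R → μ ρ = 1) {d : K} (hd : d ∈ T₀)
    (hμd : μ ⟨d, hB.T_le hd⟩ ≠ 1) {φ : IrrCharacter K} (hφ : φ ∈ principalBlock M K) :
    twist μ φ 1 = 0 := by
  classical
  by_contra hS
  set dB : B := ⟨d, hB.T_le hd⟩ with hdB
  have h1 : d ≠ 1 := fun h => hμd (by rw [show dB = 1 from Subtype.ext h, map_one])
  set ζ : ℂ := ((μ dB : ℂˣ) : ℂ) with hζ
  have hζ0 : ζ ≠ 0 := Units.ne_zero _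
  have hζn : ζ ^ orderOf d = 1 := by
    rw [hζ, ← Units.val_pow_eq_pow_val, ← map_pow,
      show dB ^ orderOf d = 1 from Subtype.ext (pow_orderOf_eq_one d), map_one, Units.val_one]
  have hodd : ¬ 2 ∣ orderOf d := fun h2 => by
    have h3 : orderOf (⟨d, hB.T_H hd⟩ : H) ∣ Nat.card H := orderOf_dvd_natCard _
    rw [Subgroup.orderOf_mk] at h3
    exact Nat.not_even_iff_odd.2 hB.H_odd (even_iff_two_dvd.2 (h2.trans h3))
  have hζ2 : ζ * ζ ≠ 1 := by
    intro h
    have hord := orderOf_dvd_of_pow_eq_one hζn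
    have h2 : orderOf ζ ∣ 2 := orderOf_dvd_of_pow_eq_one (by rw [pow_two, h])
    rcases (Nat.dvd_prime Nat.prime_two).1 h2 with h4 | h4
    · exact hμd (Units.ext (orderOf_eq_one_iff.1 h4))
    · exact hodd (h4 ▸ hord)
  have hg0 : twist μ φ g₀ = 0 := by
    have hgd : g₀ * d = d⁻¹ * g₀ := mul_inv_eq_iff_eq_mul.1 (hB.g₀_inv d hd)
    have e1 := twist_mul_right μ φ g₀ dB
    have e2 := twist_mul_left μ φ g₀ dB⁻¹
    rw [show g₀ * (dB : K) = ((dB⁻¹ : B) : K) * g₀ from hgd, e2, map_inv, Units.val_inv_eq_inv_val,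
      ← hζ] at e1
    by_contra hne
    exact hζ2 (by rw [mul_eq_mul_right_iff, or_iff_left hne] at e1; nth_rewrite 1 [← e1]; field_simp)
  have hout : ∀ x, x ∉ B → twist μ φ x = 0 := by
    intro x hx
    obtain ⟨a, ha, b, hb, rfl⟩ := hB.double_coset hx
    rw [twist_mul_right μ φ _ ⟨b, hb⟩, twist_mul_left μ φ g₀ ⟨a, ha⟩, hg0, mul_zero, mul_zero]
  have hin : ∀ x (hx : x ∈ B), twist μ φ x = ((μ ⟨x, hx⟩ : ℂˣ) : ℂ) * twist μ φ 1 := fun x hx => by
    have := twist_mul_right μ φ 1 ⟨x, hx⟩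
    rwa [one_mul] at this
  have key := twist_sum_class μ φ d
  rw [← Finset.sum_filter, ← Finset.sum_filter_of_ne (p := fun x => x ∈ B) (fun x _ hne => by
      by_contra hx; exact hne (hout x hx)), Finset.filter_filter, hB.class_filter hd h1,
    Finset.sum_union, Finset.sum_image (fun a _ b _ h => Subtype.ext (mul_right_cancel h)),
    Finset.sum_image (fun a _ b _ h => Subtype.ext (mul_right_cancel h))] at key
  swap
  · rw [Finset.disjoint_left]
    rintro x hx hy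
    obtain ⟨ρ, -, rfl⟩ := Finset.mem_image.1 hx
    obtain ⟨σ, -, hσ⟩ := Finset.mem_image.1 hy
    have hdd : d * d ∈ R := by
      have : d * d = (ρ : K)⁻¹ * σ := by
        rw [show (σ : K) = (ρ : K) * d * d from mul_inv_eq_iff_eq_mul.1 hσ]
        group
      rw [this]; exact mul_mem (inv_mem ρ.2) σ.2
    exact hB.fpf d hd h1 (d * d) hdd (hB.sq_ne_one hd h1) (mul_assoc d d d)
  have e1 : ∀ ρ : R, twist μ φ ((ρ : K) * d) = ζ * twist μ φ 1 := fun ρ => by
    rw [hin _ (mul_mem (hB.R_le ρ.2) (hB.T_le hd))]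
    congr 2
    rw [hdB, show (⟨(ρ : K) * d, mul_mem (hB.R_le ρ.2) (hB.T_le hd)⟩ : B) =
      ⟨ρ, hB.R_le ρ.2⟩ * ⟨d, hB.T_le hd⟩ from rfl, map_mul, hR _ ρ.2, one_mul]
  have e2 : ∀ ρ : R, twist μ φ ((ρ : K) * d⁻¹) = ζ⁻¹ * twist μ φ 1 := fun ρ => by
    rw [hin _ (mul_mem (hB.R_le ρ.2) (inv_mem (hB.T_le hd))), hζ, ← Units.val_inv_eq_inv_val,
      ← map_inv]
    congr 2
    rw [show (⟨(ρ : K) * d⁻¹, mul_mem (hB.R_le ρ.2) (inv_mem (hB.T_le hd))⟩ : B) =
      ⟨ρ, hB.R_le ρ.2⟩ * dB⁻¹ from rfl, map_mul, hR _ ρ.2, one_mul]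
  simp only [e1, e2, Finset.sum_const, Finset.card_univ, nsmul_eq_mul, ← Nat.card_eq_fintype_card,
    hB.card_R] at key
  have hω : centralChar (φ : K → ℂ) d = (r : ℂ) * (ζ + ζ⁻¹) :=
    mul_right_cancel₀ hS (key.symm.trans (by ring))
  have hc := centralChar_principal (M := M) φ hφ d
  rw [hω, hB.index_cent hd h1] at hc
  have heven : MemLocalIdeal M ((r * (r + 1) : ℕ) : ℂ) :=
    (H20.natCast_memIdeal_iff hM _).2 (even_iff_two_dvd.1 (Nat.even_mul_succ_self r))
  have h3 := H20.memIdeal_add hc heven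
  rw [sub_add_cancel] at h3
  have hri : MemLocalRing M ((r : ℂ)⁻¹ * ζ) :=
    H20.memRing_mul (H20.inv_natCast_memRing hM (fun h => Nat.not_even_iff_odd.2 hB.r_odd
      (even_iff_two_dvd.2 h))) (H20.memRing_of_pow_eq_one (orderOf_pos d) hζn)
  have h4 := H20.memIdeal_mul hri h3
  have hr0 : (r : ℂ) ≠ 0 := Nat.cast_ne_zero.2 hB.r_pos.ne'
  rw [show (r : ℂ)⁻¹ * ζ * ((r : ℂ) * (ζ + ζ⁻¹)) = ζ * ζ + 1 by field_simp] at h4
  have h5 := H20.memIdeal_add h4 (H20.memIdeal_mul (H20.memRing_intCast (M := M) (-1))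
    (H20.memIdeal_p hM))
  rw [show ζ * ζ + 1 + ((-1 : ℤ) : ℂ) * ((2 : ℕ) : ℂ) = ζ * ζ - 1 by push_cast; ring] at h5
  exact hζ2 (H20.eq_one_of_pow_eq_one hM hodd (by rw [mul_pow, hζn, one_mul]) h5)

/-- The constituents of the permutation character lie in the principal block. -/
theorem mem_principal_of_twist (hM : IsPModular 2 M) (hB : Borel B R T₀ H g₀ r)
    {φ : IrrCharacter K} (hS : twist (1 : B →* ℂˣ) φ 1 ≠ 0) : φ ∈ principalBlock M K := by
  classical
  by_cases hφ1 : φ = H12.oneIrr K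
  · exact hφ1 ▸ H20.mem_blockOf_self (H12.oneIrr K)
  set S := twist (1 : B →* ℂˣ) φ 1
  set s := twist (1 : B →* ℂˣ) φ g₀
  have hin : ∀ x, x ∈ B → twist (1 : B →* ℂˣ) φ x = S := fun x hx => by
    simpa using twist_mul_right (1 : B →* ℂˣ) φ 1 ⟨x, hx⟩
  have hout : ∀ x, x ∉ B → twist (1 : B →* ℂˣ) φ x = s := fun x hx => by
    obtain ⟨a, ha, b, hb, rfl⟩ := hB.double_coset hx
    rw [twist_mul_right _ φ _ ⟨b, hb⟩, twist_mul_left _ φ g₀ ⟨a, ha⟩]
    simp [s]
  have h0 : ∑ x : K, (φ : K → ℂ) x = 0 := by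
    have := H12.classInner_irr_ne hφ1
    simpa [classInner, H12.oneIrr_apply, H12.card_ne_zero'] using this
  have hsum : ∑ x : K, twist (1 : B →* ℂˣ) φ x = 0 := by
    simp only [twist, MonoidHom.one_apply, Units.val_one, one_mul]
    rw [Finset.sum_comm]
    refine Finset.sum_eq_zero fun b _ => ?_
    rw [← h0]
    exact Fintype.sum_equiv (Equiv.mulRight (b : K)) _ _ fun x => rfl
  have hcB : ((Finset.univ.filter fun x : K => x ∈ B).card : ℂ) = (Nat.card B : ℂ) := by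
    congr 1; rw [Nat.card_eq_fintype_card, Fintype.card_subtype]
  have hcN : ((Finset.univ.filter fun x : K => x ∉ B).card : ℂ) = (r : ℂ) * (Nat.card B : ℂ) := by
    have h := Finset.card_filter_add_card_filter_not (s := (Finset.univ : Finset K))
      (fun x => x ∈ B)
    rw [Finset.card_univ, ← Nat.card_eq_fintype_card, hB.card_K] at h
    have h' : ((Finset.univ.filter fun x : K => x ∈ B).card : ℂ) +
        (Finset.univ.filter fun x : K => x ∉ B).card = ((r + 1) * Nat.card B : ℕ) := by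
      rw [← h]; push_cast; rfl
    rw [hcB] at h'
    push_cast at h'
    linear_combination h'
  rw [← Finset.sum_filter_add_sum_filter_not _ (fun x : K => x ∈ B),
    Finset.sum_congr rfl fun x hx => hin x (Finset.mem_filter.1 hx).2,
    Finset.sum_congr rfl fun x hx => hout x (Finset.mem_filter.1 hx).2,
    Finset.sum_const, Finset.sum_const, nsmul_eq_mul, nsmul_eq_mul, hcB, hcN] at hsum
  have hBne : (Nat.card B : ℂ) ≠ 0 := Nat.cast_ne_zero.2 Nat.card_pos.ne'
  have hr0 : (r : ℂ) ≠ 0 := Nat.cast_ne_zero.2 hB.r_pos.ne'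
  have hs : s = -(S / r) := by
    field_simp
    apply mul_left_cancel₀ hBne
    linear_combination hsum
  have hri : MemLocalRing M ((r : ℂ)⁻¹) := H20.inv_natCast_memRing hM
    (fun h => Nat.not_even_iff_odd.2 hB.r_odd (even_iff_two_dvd.2 h))
  show SameBlock M (fun _ : K => (1 : ℂ)) (φ : K → ℂ)
  intro g
  set a := (Finset.univ.filter fun x : K => IsConj g x ∧ x ∈ B).card with ha
  set c := (Finset.univ.filter fun x : K => IsConj g x ∧ x ∉ B).card with hc
  have hidx : (Subgroup.centralizer ({g} : Set K)).index = a + c := by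
    rw [H20.index_centralizer_eq_card_class, Nat.card_eq_fintype_card, Fintype.card_subtype,
      ← Finset.card_filter_add_card_filter_not (fun x : K => x ∈ B), Finset.filter_filter,
      Finset.filter_filter]
  have key := twist_sum_class (1 : B →* ℂˣ) φ g
  rw [← Finset.sum_filter, ← Finset.sum_filter_add_sum_filter_not _ (fun x : K => x ∈ B),
    Finset.filter_filter, Finset.filter_filter,
    Finset.sum_congr rfl fun x hx => hin x (Finset.mem_filter.1 hx).2.2,
    Finset.sum_congr rfl fun x hx => hout x (Finset.mem_filter.1 hx).2.2,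
    Finset.sum_const, Finset.sum_const, nsmul_eq_mul, nsmul_eq_mul, ← ha, ← hc, hs] at key
  have hω : centralChar (φ : K → ℂ) g = (a : ℂ) - (c : ℂ) * (r : ℂ)⁻¹ :=
    mul_right_cancel₀ hS (key.symm.trans (by ring))
  rw [show centralChar (fun _ : K => (1 : ℂ)) g = ((Subgroup.centralizer ({g} : Set K)).index : ℂ)
      by simp [centralChar], hω, hidx,
    show ((a + c : ℕ) : ℂ) - ((a : ℂ) - (c : ℂ) * (r : ℂ)⁻¹) =
      (c : ℂ) * (r : ℂ)⁻¹ * ((r + 1 : ℕ) : ℂ) by push_cast; field_simp; ring]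
  exact H20.memIdeal_mul (H20.memRing_mul (H20.memRing_natCast c) hri)
    ((H20.natCast_memIdeal_iff hM _).2 (even_iff_two_dvd.1 hB.r_odd.add_one))

theorem mem_H_of_odd (hB : Borel B R T₀ H g₀ r) {z : K} (hz : z ∈ B) (ho : ¬ 2 ∣ orderOf z) :
    z ∈ H := by
  haveI : (H.subgroupOf B).Normal :=
    (Subgroup.normal_subgroupOf_iff_le_normalizer hB.H_le).2 hB.H_norm
  obtain ⟨k, hk⟩ := hB.H_index
  have h1 : orderOf (QuotientGroup.mk' (H.subgroupOf B) ⟨z, hz⟩) ∣ 2 ^ k := by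
    rw [← hk]; exact orderOf_dvd_natCard _
  have h2 : orderOf (QuotientGroup.mk' (H.subgroupOf B) ⟨z, hz⟩) ∣ orderOf z := by
    rw [← Subgroup.orderOf_mk z hz]; exact orderOf_map_dvd _ _
  have h3 : orderOf (QuotientGroup.mk' (H.subgroupOf B) ⟨z, hz⟩) = 1 :=
    Nat.eq_one_of_dvd_coprimes
      (Nat.Coprime.pow_left k ((Nat.prime_two.coprime_iff_not_dvd).2 ho)) h1 h2
  rw [orderOf_eq_one_iff, QuotientGroup.mk'_apply, QuotientGroup.eq_one_iff] at h3
  exact h3

theorem odd_of_mem_H (hB : Borel B R T₀ H g₀ r) {z : K} (hz : z ∈ H) : ¬ 2 ∣ orderOf z := fun h =>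
  Nat.not_even_iff_odd.2 hB.H_odd
    (even_iff_two_dvd.2 (h.trans ((Subgroup.orderOf_mk z hz).symm ▸ orderOf_dvd_natCard _)))

open Classical in
theorem sum_H_twisted (hM : IsPModular 2 M) (hB : Borel B R T₀ H g₀ r) (μ : B →* ℂˣ)
    {b : Set (IrrCharacter K)} (hb : IsPBlock M b) (h0 : ∀ φ ∈ b, twist μ φ 1 = 0)
    {φ : IrrCharacter K} (hφ : φ ∈ b) :
    ∑ h : H, ((μ ⟨h, hB.H_le h.2⟩ : ℂˣ) : ℂ) * conj ((φ : K → ℂ) h) = 0 := by
  let f : K → ℂ := fun z => if h : z ∈ B then ((μ ⟨z, h⟩ : ℂˣ) : ℂ) else 0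
  let f' : K → ℂ := fun z => if z ∈ H then f z else 0
  have h1 := regular_part_orth hM hb (f := f) (f' := f')
    (fun z hz => if_neg fun hm => hB.odd_of_mem_H hm hz)
    (fun z hz => by
      by_cases hzH : z ∈ H
      · simp [f', hzH]
      · rw [show f' z = 0 from if_neg hzH]
        exact dif_neg fun hzB => hzH (hB.mem_H_of_odd hzB hz))
    (fun ψ hψ => by rw [← twist_one_eq]; exact h0 ψ hψ) hφ
  simp only [f', ite_mul, zero_mul, ← Finset.sum_filter] at h1
  rw [Finset.sum_subtype (p := fun z => z ∈ H) _ (fun z => by simp)] at h1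
  rw [← h1]
  exact Finset.sum_congr rfl fun h _ => by simp [f, hB.H_le h.2]

open Classical in
theorem sum_H_of_notMem (hM : IsPModular 2 M) (hB : Borel B R T₀ H g₀ r) {φ : IrrCharacter K}
    (hφ : φ ∉ principalBlock M K) : ∑ h : H, (φ : K → ℂ) h = 0 := by
  have h := hB.sum_H_twisted hM 1 (H20.isPBlock_blockOf φ) (fun ψ hψ => by
      by_contra hne
      exact hφ (H20.block_eq_of_mem H20.isPBlock_principalBlock (H20.isPBlock_blockOf φ)
        (hB.mem_principal_of_twist hM hne) hψ ▸ H20.mem_blockOf_self φ))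
    (H20.mem_blockOf_self φ)
  simp only [MonoidHom.one_apply, Units.val_one, one_mul] at h
  have := congrArg conj h
  simpa using this

open Classical in
theorem sum_R_eq (hM : IsPModular 2 M) (hB : Borel B R T₀ H g₀ r) {φ : IrrCharacter K}
    (hφ : φ ∈ principalBlock M K) {d : K} (hd : d ∈ T₀) :
    ∑ ρ : R, (φ : K → ℂ) (d * ρ) = ∑ ρ : R, (φ : K → ℂ) ρ := by
  haveI : (R.subgroupOf B).Normal :=
    (Subgroup.normal_subgroupOf_iff_le_normalizer hB.R_le).2 hB.R_norm
  haveI : Fintype (↥B ⧸ R.subgroupOf B) := Fintype.ofFinite _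
  let π := QuotientGroup.mk' (R.subgroupOf B)
  have hcomm : ∀ a b : ↥B ⧸ R.subgroupOf B, a * b = b * a := by
    intro a b
    obtain ⟨a, rfl⟩ := QuotientGroup.mk'_surjective _ a
    obtain ⟨b, rfl⟩ := QuotientGroup.mk'_surjective _ b
    rw [← map_mul, ← map_mul, QuotientGroup.mk'_apply, QuotientGroup.mk'_apply, QuotientGroup.eq,
      Subgroup.mem_subgroupOf]
    convert hB.ab _ (inv_mem b.2) _ (inv_mem a.2) using 1
    push_cast
    group
  let f : (↥B ⧸ R.subgroupOf B) → ℂ := fun q =>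
    ∑ b : B, if (b : K) ∈ H ∧ π b = q then (φ : K → ℂ) b else 0
  have hcl : IsClassFunction (↥B ⧸ R.subgroupOf B) f := fun q c => by
    rw [hcomm c q, mul_inv_cancel_right]
  have hconst : f (π ⟨d, hB.T_le hd⟩) = f 1 := by
    rw [H20.classFunction_eq_sum_apply hcl, H20.classFunction_eq_sum_apply hcl]
    refine Finset.sum_congr rfl fun χ _ => ?_
    obtain ⟨μ0, hμ0⟩ := H12.exists_monoidHom_of_apply_one_eq_one (H12.isCharacter_irr χ)
      (H12.irr_apply_one_of_comm hcomm χ)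
    by_cases hμ : μ0 (π ⟨d, hB.T_le hd⟩) = 1
    · congr 1
      rw [← hμ0]
      simp [hμ]
    · suffices h : classInner f (χ : _ → ℂ) = 0 by rw [h, zero_mul, zero_mul]
      have h1 := hB.sum_H_twisted hM (μ0.comp π) H20.isPBlock_principalBlock
        (fun ψ hψ => hB.twist_eq_zero hM _ (fun ρ hρ => by
          rw [MonoidHom.comp_apply, show π ρ = 1 from (QuotientGroup.eq_one_iff ρ).2 hρ, map_one])
          hd hμ hψ) hφ
      have h2 := congrArg conj h1
      simp only [map_sum, map_mul, Complex.conj_conj, map_zero] at h2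
      rw [classInner]
      simp only [f, Finset.sum_mul, ite_mul, zero_mul]
      rw [Finset.sum_comm]
      simp only [ite_and]
      rw [show ∑ b : B, ∑ q, (if (b : K) ∈ H then if π b = q then
          (φ : K → ℂ) b * conj ((χ : _ → ℂ) q) else 0 else 0) =
          ∑ b : B, if (b : K) ∈ H then (φ : K → ℂ) b * conj ((μ0 (π b) : ℂˣ) : ℂ) else 0 from
        Finset.sum_congr rfl fun b _ => by split_ifs <;> simp [← hμ0],
        ← Finset.sum_filter]
      refine mul_eq_zero_of_right _ ?_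
      rw [← h2]
      refine Finset.sum_bij' (fun b hb => ⟨(b : K), (Finset.mem_filter.1 hb).2⟩)
        (fun h _ => ⟨(h : K), hB.H_le h.2⟩) (by simp) (by simp) (by simp) (by simp) fun b _ => ?_
      simp [mul_comm]
  have hfd : ∀ e : K, (he : e ∈ T₀) →
      f (π ⟨e, hB.T_le he⟩) = ∑ ρ : R, (φ : K → ℂ) (e * ρ) := by
    intro e he
    simp only [f, ← Finset.sum_filter]
    refine (Finset.sum_bij' (fun (ρ : R) _ => (⟨e * ρ, mul_mem (hB.T_le he) (hB.R_le ρ.2)⟩ : B))
      (fun b hb => (⟨e⁻¹ * b, ?_⟩ : R)) (fun ρ _ => ?_) (by simp) (by simp) (by simp)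
      fun ρ _ => rfl).symm
    · have h2 := (Finset.mem_filter.1 hb).2.2.symm
      rw [QuotientGroup.mk'_apply, QuotientGroup.mk'_apply, QuotientGroup.eq,
        Subgroup.mem_subgroupOf] at h2
      simpa using h2
    · rw [Finset.mem_filter]
      refine ⟨Finset.mem_univ _, mul_mem (hB.T_H he) (hB.R_H ρ.2), ?_⟩
      rw [QuotientGroup.mk'_apply, QuotientGroup.mk'_apply, QuotientGroup.eq,
        Subgroup.mem_subgroupOf]
      simp
  rw [hfd d hd, show (1 : ↥B ⧸ R.subgroupOf B) = π ⟨1, hB.T_le (one_mem T₀)⟩ from (map_one π).symm,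
    hfd 1 (one_mem T₀)] at hconst
  simpa using hconst

end Borel

end H18.CSy
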