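import Cfsg.Agent.H76.CSy.Defs
import Cfsg.Agent.H18.CSy.BorelBlock

/-!
The second main theorem at a central involution of a group like `SL₂(r).2`, read on its Borel
subgroup.
-/

set_option autoImplicit false
set_option linter.style.haveILetI false

open Cfsg Subgroup
open scoped Pointwise

namespace H18.CSy

universe u

variable {G : Type u} [Group G] [Finite G]

theorem card_sup_odd {B R T₀ : Subgroup G} (hR : Odd (Nat.card R)) (hT : Odd (Nat.card T₀))
    (hTB : T₀ ≤ B) (hn : B ≤ normalizer (R : Set G)) (hd : ∀ x ∈ R, x ∈ T₀ → x = 1) :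
    Odd (Nat.card (R ⊔ T₀ : Subgroup G)) := by
  have hset : ((R ⊔ T₀ : Subgroup G) : Set G) = (R : Set G) * (T₀ : Set G) :=
    Subgroup.coe_mul_of_right_le_normalizer_left R T₀ (hTB.trans hn)
  have e : Nat.card (R ⊔ T₀ : Subgroup G) = Nat.card (R × T₀) := by
    refine (Nat.card_eq_of_bijective (fun x : R × T₀ =>
      (⟨(x.1 : G) * x.2, mul_mem (mem_sup_left x.1.2) (mem_sup_right x.2.2)⟩ :
        (R ⊔ T₀ : Subgroup G))) ⟨?_, ?_⟩).symm
    · rintro ⟨a, b⟩ ⟨a', b'⟩ h
      have h' : (a : G) * b = (a' : G) * b' := congrArg Subtype.val h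
      have h1 : (a' : G)⁻¹ * a = (b' : G) * (b : G)⁻¹ := by
        rw [inv_mul_eq_iff_eq_mul, ← mul_assoc, ← h', mul_inv_cancel_right]
      have hm := hd _ (mul_mem (inv_mem a'.2) a.2) (h1 ▸ mul_mem b'.2 (inv_mem b.2))
      have ha : (a : G) = a' := (inv_mul_eq_one.1 hm).symm
      rw [ha, mul_right_inj] at h'
      exact Prod.ext (Subtype.ext ha) (Subtype.ext h')
    · rintro ⟨x, hx⟩
      have hx' : x ∈ (R : Set G) * (T₀ : Set G) := hset ▸ hx
      obtain ⟨a, ha, b, hb, rfl⟩ := Set.mem_mul.1 hx'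
      exact ⟨(⟨a, ha⟩, ⟨b, hb⟩), rfl⟩
  rw [e, Nat.card_prod]
  exact hR.mul hT

theorem borel_of_hyp {t g₀ : G} {B R T₀ : Subgroup G} {r : ℕ} (hr : r.Prime) (hr2 : r ≠ 2)
    (hBC : B ≤ centralizer ({t} : Set G)) (hRB : R ≤ B) (hTB : T₀ ≤ B) (hcR : Nat.card R = r)
    (hoT : Odd (Nat.card T₀)) (hnR : B ≤ normalizer (R : Set G))
    (hnH : B ≤ normalizer ((R ⊔ T₀ : Subgroup G) : Set G))
    (hidx : ∃ k : ℕ, (R ⊔ T₀).relIndex B = 2 ^ k)
    (hab : ∀ a ∈ B, ∀ b ∈ B, a * b * a⁻¹ * b⁻¹ ∈ R)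
    (hfpf : ∀ d ∈ T₀, d ≠ 1 → ∀ ρ ∈ R, ρ ≠ 1 → ρ * d ≠ d * ρ)
    (hcard : Nat.card (centralizer ({t} : Set G)) = (r + 1) * Nat.card B)
    (htt : ∀ g ∈ centralizer ({t} : Set G), g ∉ B →
      r * Nat.card {b : G // b ∈ B ∧ g⁻¹ * b * g ∈ B} = Nat.card B)
    (hg : g₀ ∈ centralizer ({t} : Set G)) (hgB : g₀ ∉ B) (hinv : ∀ d ∈ T₀, g₀ * d * g₀⁻¹ = d⁻¹)
    (hcd : ∀ d ∈ T₀, d ≠ 1 → Nat.card (centralizer ({t, d} : Set G)) * (r * (r + 1)) =
      Nat.card (centralizer ({t} : Set G)))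
    (hfix : ∀ d ∈ T₀, d ≠ 1 → ∀ g ∈ centralizer ({t} : Set G), g⁻¹ * d * g ∈ B →
      g ∈ B ∨ g₀⁻¹ * g ∈ B)
    [Fintype (centralizer ({t} : Set G))] :
    Borel (B.subgroupOf (centralizer ({t} : Set G))) (R.subgroupOf (centralizer ({t} : Set G)))
      (T₀.subgroupOf (centralizer ({t} : Set G)))
      ((R ⊔ T₀).subgroupOf (centralizer ({t} : Set G))) ⟨g₀, hg⟩ r where
  r_odd := hr.odd_of_ne_two hr2
  R_le := fun _ h => hRB h
  T_le := fun _ h => hTB h
  R_H := fun _ h => mem_sup_left (mem_subgroupOf.1 h)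
  T_H := fun _ h => mem_sup_right (mem_subgroupOf.1 h)
  H_le := fun _ h => (sup_le hRB hTB) h
  H_odd := by
    rw [Nat.card_congr (subgroupOfEquivOfLe ((sup_le hRB hTB).trans hBC)).toEquiv]
    exact card_sup_odd (hcR ▸ hr.odd_of_ne_two hr2) hoT hTB hnR fun x hxR hxT => by
      by_contra hne
      exact hfpf x hxT hne x hxR hne rfl
  H_norm := by
    intro x hx
    rw [Subgroup.mem_normalizer_iff]
    intro y
    exact (Subgroup.mem_normalizer_iff.1 (hnH hx)) (y : G)
  H_index := by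
    obtain ⟨k, hk⟩ := hidx
    exact ⟨k, by rw [Subgroup.relIndex_subgroupOf hBC, hk]⟩
  card_R := by
    rw [Nat.card_congr (subgroupOfEquivOfLe (hRB.trans hBC)).toEquiv, hcR]
  R_norm := by
    intro x hx
    rw [Subgroup.mem_normalizer_iff]
    intro y
    exact (Subgroup.mem_normalizer_iff.1 (hnR hx)) (y : G)
  ab := fun a ha b hb => hab _ ha _ hb
  fpf := fun d hd h1 ρ hρ h2 h => hfpf _ hd (fun e => h1 (Subtype.ext e)) _ hρ
    (fun e => h2 (Subtype.ext e)) (congrArg Subtype.val h)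
  card_K := by rw [Nat.card_congr (subgroupOfEquivOfLe hBC).toEquiv, hcard]
  two_trans := by
    rw [Nat.card_congr (subgroupOfEquivOfLe hBC).toEquiv, ← htt g₀ hg hgB]
    congr 1
    exact Nat.card_congr
      { toFun := fun b => ⟨(b.1 : G), b.2⟩
        invFun := fun b => ⟨⟨b.1, hBC b.2.1⟩, b.2⟩
        left_inv := fun b => rfl
        right_inv := fun b => rfl }
  g₀_notMem := hgB
  g₀_inv := fun d hd => Subtype.ext (hinv _ hd)
  cent_d := fun d hd h1 => by
    rw [← hcd _ hd (fun e => h1 (Subtype.ext e))]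
    congr 1
    refine Nat.card_congr
      { toFun := fun c => ⟨((c : centralizer ({t} : Set G)) : G), ?_⟩
        invFun := fun c => ⟨⟨c.1, fun w hw => c.2 w (Set.mem_insert_iff.2 (Or.inl hw))⟩,
          fun w hw => ?_⟩
        left_inv := fun c => rfl
        right_inv := fun c => rfl }
    · intro w hw
      rcases Set.mem_insert_iff.1 hw with rfl | hw
      · exact (c : centralizer ({w} : Set G)).2 w rfl
      · rw [Set.mem_singleton_iff.1 hw]
        exact congrArg Subtype.val (c.2 d rfl)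
    · rw [Set.mem_singleton_iff.1 hw]
      exact Subtype.ext (c.2 (d : G) (Set.mem_insert_of_mem _ rfl))
  fix_d := fun d hd h1 g h => hfix _ hd (fun e => h1 (Subtype.ext e)) _ g.2 h

open Classical in
theorem borelMean : H76.CSy.BorelMeanStmt.{u} := by
  intro G _ _ M hM t g₀ B R T₀ r ht hr hr2 hBC _ hRB hTB hcR hoT hnR hnH hidx hab hfpf hcard htt
    hg hgB hinv hcd hfix
  haveI : M.IsPrime := hM.2.1.isPrime
  haveI : Fintype G := Fintype.ofFinite G
  haveI : Fintype (centralizer ({t} : Set G)) := Fintype.ofFinite _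
  have hB := borel_of_hyp hr hr2 hBC hRB hTB hcR hoT hnR hnH hidx hab hfpf hcard htt hg hgB hinv
    hcd hfix
  set C := centralizer ({t} : Set G)
  set H' := (R ⊔ T₀).subgroupOf C with hH'
  have htp : ∃ k : ℕ, orderOf t = 2 ^ k := ⟨1, by rw [ht, pow_one]⟩
  have hθ : ∀ χ : IrrCharacter G,
      IsClassFunction C (fun c : C => (χ : G → ℂ) (t * (c : G))) := fun χ =>
    H20.isClassFunction_shift (H12.irr_isClassFunction χ) t
  refine ⟨fun χ hχ => ?_, fun χ hχ d hd h1 => ?_⟩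
  · set θ := fun c : C => (χ : G → ℂ) (t * (c : G))
    have h0 : ∀ h : H', blockPart (principalBlock M C) θ (h : C) = 0 := fun h => by
      rw [← H20.sum_blockCoeff_mul _ (hθ χ)]
      simp only [Subgroup.coe_mul]
      exact H20.second_main_sum hM htp (H20.principal_induces hM htp) hχ h (hB.odd_of_mem_H h.2)
    have h1 : ∑ h : H', θ (h : C) = 0 := by
      have e : ∑ h : H', θ (h : C) = ∑ h : H', blockPart (principalBlock M C) θ (h : C) := by
        rw [Finset.sum_congr rfl fun (h : H') _ => H20.classFunction_eq_sum_apply (hθ χ) (h : C)]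
        simp only [H20.blockPart_eq_sum]
        conv_lhs => rw [Finset.sum_comm]
        conv_rhs => rw [Finset.sum_comm]
        refine Finset.sum_congr rfl fun φ _ => ?_
        by_cases hφ : φ ∈ principalBlock M C
        · simp [hφ, θ]
        · rw [← Finset.mul_sum, hB.sum_H_of_notMem hM hφ]
          simp [hφ]
      rw [e]
      exact Finset.sum_eq_zero fun h _ => h0 h
    rw [finsum_eq_sum_of_fintype, ← h1]
    exact (Fintype.sum_equiv (subgroupOfEquivOfLe ((sup_le hRB hTB).trans hBC)).toEquiv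
      (fun h : H' => θ (h : C)) _ fun h => rfl).symm
  · set θ := fun c : C => (χ : G → ℂ) (t * (c : G))
    set d' : C := ⟨d, hBC (hTB hd)⟩
    have hd' : d' ∈ T₀.subgroupOf C := hd
    have hbp : ∀ h : C, h ∈ H' → θ h = blockPart (principalBlock M C) θ h := fun h hh =>
      H20.principal_shift hM htp hχ h (hB.odd_of_mem_H hh)
    have e : ∑ ρ : R.subgroupOf C, θ (d' * ρ) = ∑ ρ : R.subgroupOf C, θ (ρ : C) := by
      rw [Finset.sum_congr rfl fun ρ _ => hbp _ (mul_mem (hB.T_H hd') (hB.R_H ρ.2)),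
        Finset.sum_congr rfl fun ρ _ => hbp _ (hB.R_H ρ.2)]
      simp only [H20.blockPart_eq_sum]
      conv_lhs => rw [Finset.sum_comm]
      conv_rhs => rw [Finset.sum_comm]
      refine Finset.sum_congr rfl fun φ _ => ?_
      by_cases hφ : φ ∈ principalBlock M C
      · simp only [hφ, if_true, ← Finset.mul_sum]
        rw [hB.sum_R_eq hM hφ hd']
      · simp [hφ]
    have hne : d' ≠ 1 := fun h => h1 (congrArg Subtype.val h)
    have e2 : ∀ ρ : R.subgroupOf C, θ (d' * ρ) = θ d' := by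
      intro ρ
      have hm : d' * (ρ : C) * d'⁻¹ ∈ R.subgroupOf C :=
        (Subgroup.mem_normalizer_iff.1 (hB.R_norm (hB.T_le hd')) _).1 ρ.2
      have hc := hB.isConj_mul_d hd' hne hm
      rw [inv_mul_cancel_right] at hc
      exact (H12.IsClassFunction.of_isConj (hθ χ) hc).symm
    rw [Finset.sum_congr rfl fun ρ _ => e2 ρ, Finset.sum_const, Finset.card_univ, nsmul_eq_mul,
      ← Nat.card_eq_fintype_card, hB.card_R] at e
    rw [finsum_eq_sum_of_fintype]
    refine Eq.trans ?_ e.symm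
    exact (Fintype.sum_equiv (subgroupOfEquivOfLe (hRB.trans hBC)).toEquiv
      (fun h : R.subgroupOf C => θ (h : C)) _ fun h => rfl).symm

end H18.CSy
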